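import Cfsg.Prelude.Def_Classical
import Mathlib

/-!
# The standard forms `quadFormPlus`, `quadFormOdd`, `quadFormMinus` as quadratic forms

Polar forms and nondegeneracy.
-/

namespace CfsgLib.StdForms

variable {F : Type*} [Field F]

/-- `quadFormPlus` as a quadratic form. -/
noncomputable def plusQ (m : ℕ) (F : Type*) [Field F] : QuadraticForm F (Fin m ⊕ Fin m → F) :=
  ∑ i : Fin m, QuadraticMap.linMulLin (LinearMap.proj (Sum.inl i)) (LinearMap.proj (Sum.inr i))

/-- `quadFormOdd` as a quadratic form. -/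
noncomputable def oddQ (m : ℕ) (F : Type*) [Field F] :
    QuadraticForm F (Unit ⊕ (Fin m ⊕ Fin m) → F) :=
  QuadraticMap.linMulLin (LinearMap.proj (Sum.inl ())) (LinearMap.proj (Sum.inl ())) +
    ∑ i : Fin m, QuadraticMap.linMulLin (LinearMap.proj (Sum.inr (Sum.inl i)))
      (LinearMap.proj (Sum.inr (Sum.inr i)))

/-- `quadFormMinus` as a quadratic form. -/
noncomputable def minusQ (k : ℕ) (F : Type*) [Field F] (a b : F) :
    QuadraticForm F ((Fin k ⊕ Fin k) ⊕ Fin 2 → F) :=
  (∑ i : Fin k, QuadraticMap.linMulLin (LinearMap.proj (Sum.inl (Sum.inl i)))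
      (LinearMap.proj (Sum.inl (Sum.inr i)))) +
    (QuadraticMap.linMulLin (LinearMap.proj (Sum.inr 0)) (LinearMap.proj (Sum.inr 0)) +
      a • QuadraticMap.linMulLin (LinearMap.proj (Sum.inr 0)) (LinearMap.proj (Sum.inr 1)) +
      b • QuadraticMap.linMulLin (LinearMap.proj (Sum.inr 1)) (LinearMap.proj (Sum.inr 1)))

theorem plusQ_apply (m : ℕ) (v : Fin m ⊕ Fin m → F) :
    plusQ m F v = Cfsg.quadFormPlus m F v := by
  simp [plusQ, Cfsg.quadFormPlus]

theorem oddQ_apply (m : ℕ) (v : Unit ⊕ (Fin m ⊕ Fin m) → F) :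
    oddQ m F v = Cfsg.quadFormOdd m F v := by
  simp [oddQ, Cfsg.quadFormOdd, sq]

theorem minusQ_apply (k : ℕ) (a b : F) (v : (Fin k ⊕ Fin k) ⊕ Fin 2 → F) :
    minusQ k F a b v = Cfsg.quadFormMinus k F a b v := by
  simp [minusQ, Cfsg.quadFormMinus, sq, mul_assoc]

theorem coe_plusQ (m : ℕ) : ⇑(plusQ m F) = Cfsg.quadFormPlus m F := funext (plusQ_apply m)

theorem coe_oddQ (m : ℕ) : ⇑(oddQ m F) = Cfsg.quadFormOdd m F := funext (oddQ_apply m)

theorem coe_minusQ (k : ℕ) (a b : F) : ⇑(minusQ k F a b) = Cfsg.quadFormMinus k F a b :=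
  funext (minusQ_apply k a b)

theorem polar_plus (m : ℕ) (u v : Fin m ⊕ Fin m → F) :
    QuadraticMap.polar (⇑(plusQ m F)) u v =
      ∑ i, (u (.inl i) * v (.inr i) + v (.inl i) * u (.inr i)) := by
  simp only [QuadraticMap.polar, plusQ_apply, Cfsg.quadFormPlus, Pi.add_apply,
    ← Finset.sum_sub_distrib]
  exact Finset.sum_congr rfl fun i _ => by ring

theorem polar_odd (m : ℕ) (u v : Unit ⊕ (Fin m ⊕ Fin m) → F) :
    QuadraticMap.polar (⇑(oddQ m F)) u v = 2 * (u (.inl ()) * v (.inl ())) +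
      ∑ i, (u (.inr (.inl i)) * v (.inr (.inr i)) + v (.inr (.inl i)) * u (.inr (.inr i))) := by
  simp only [QuadraticMap.polar, oddQ_apply, Cfsg.quadFormOdd, Pi.add_apply]
  simp only [add_mul, mul_add, Finset.sum_add_distrib]
  ring

theorem polar_minus (k : ℕ) (a b : F) (u v : (Fin k ⊕ Fin k) ⊕ Fin 2 → F) :
    QuadraticMap.polar (⇑(minusQ k F a b)) u v =
      (∑ i, (u (.inl (.inl i)) * v (.inl (.inr i)) + v (.inl (.inl i)) * u (.inl (.inr i)))) +
      (2 * (u (.inr 0) * v (.inr 0)) + a * (u (.inr 0) * v (.inr 1) + v (.inr 0) * u (.inr 1)) +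
        2 * b * (u (.inr 1) * v (.inr 1))) := by
  simp only [QuadraticMap.polar, minusQ_apply, Cfsg.quadFormMinus, Pi.add_apply]
  simp only [add_mul, mul_add, Finset.sum_add_distrib]
  ring

theorem nondegenerate_of_sep {V : Type*} [AddCommGroup V] [Module F V] (Q : QuadraticForm F V)
    (h : ∀ x, (∀ y, QuadraticMap.polar (⇑Q) x y = 0) → x = 0) :
    (QuadraticMap.polarBilin Q).Nondegenerate :=
  ⟨fun x hx => h x hx, fun x hx => h x fun y => by
    rw [QuadraticMap.polar_comm]; exact hx y⟩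

theorem plusQ_nondegenerate (m : ℕ) : (QuadraticMap.polarBilin (plusQ m F)).Nondegenerate := by
  refine nondegenerate_of_sep _ fun x hx => funext fun j => ?_
  rcases j with i | i
  · simpa [polar_plus, Pi.single_apply] using hx (Pi.single (.inr i) 1)
  · simpa [polar_plus, Pi.single_apply] using hx (Pi.single (.inl i) 1)

theorem oddQ_nondegenerate (h2 : (2 : F) ≠ 0) (m : ℕ) :
    (QuadraticMap.polarBilin (oddQ m F)).Nondegenerate := by
  refine nondegenerate_of_sep _ fun x hx => funext fun j => ?_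
  rcases j with u | i | i
  · simpa [polar_odd, Pi.single_apply, h2] using hx (Pi.single (.inl u) 1)
  · simpa [polar_odd, Pi.single_apply] using hx (Pi.single (.inr (.inr i)) 1)
  · simpa [polar_odd, Pi.single_apply] using hx (Pi.single (.inr (.inl i)) 1)

theorem minusQ_nondegenerate (k : ℕ) {a b : F} (hd : a ^ 2 - 4 * b ≠ 0) :
    (QuadraticMap.polarBilin (minusQ k F a b)).Nondegenerate := by
  refine nondegenerate_of_sep _ fun x hx => funext fun j => ?_
  rcases j with (i | i) | i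
  · simpa [polar_minus, Pi.single_apply] using hx (Pi.single (.inl (.inr i)) 1)
  · simpa [polar_minus, Pi.single_apply] using hx (Pi.single (.inl (.inl i)) 1)
  · have h0 : 2 * x (.inr 0) + a * x (.inr 1) = 0 := by
      simpa [polar_minus, Pi.single_apply] using hx (Pi.single (.inr 0) 1)
    have h1 : a * x (.inr 0) + 2 * b * x (.inr 1) = 0 := by
      simpa [polar_minus, Pi.single_apply] using hx (Pi.single (.inr 1) 1)
    have e0 : (a ^ 2 - 4 * b) * x (.inr 0) = 0 := by linear_combination a * h1 - 2 * b * h0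
    have e1 : (a ^ 2 - 4 * b) * x (.inr 1) = 0 := by linear_combination a * h0 - 2 * h1
    fin_cases i
    · exact (mul_eq_zero.1 e0).resolve_left hd
    · exact (mul_eq_zero.1 e1).resolve_left hd

theorem disc_ne_zero_of_anisotropic (h2 : (2 : F) ≠ 0) {a b : F}
    (hab : ∀ z₁ z₂ : F, z₁ ^ 2 + a * z₁ * z₂ + b * z₂ ^ 2 = 0 → z₁ = 0 ∧ z₂ = 0) :
    a ^ 2 - 4 * b ≠ 0 := by
  intro h
  have := hab (-a / 2) 1 (by field_simp; linear_combination -h)
  exact one_ne_zero this.2

end CfsgLib.StdForms
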