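import Cfsg.Agent.Spinor.Omega

/-!
# The involution negating a family of hyperbolic pairs, and membership of `Ω`
-/

namespace CfsgLib.Spinor

open Matrix

variable {F : Type*} [Field F] {ι : Type} [Fintype ι] [DecidableEq ι] {Q : QuadraticForm F (ι → F)}

lemma exists_isometry_of_prod (vs : List (ι → F)) (hvs : ∀ v ∈ vs, Q v ≠ 0) :
    ∃ g : ↥(Cfsg.isometryGroup F ⇑Q), IsReflProd Q g vs := by
  induction vs with
  | nil => exact ⟨1, IsReflProd.one⟩
  | cons v vs ih =>
    obtain ⟨g, hg⟩ := ih fun u hu => hvs u (List.mem_cons_of_mem _ hu)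
    exact ⟨_, (IsReflProd.reflIso v (hvs v List.mem_cons_self)).mul hg⟩

/-- Membership criterion for an element given by its matrix. -/
theorem exists_mem_omega_iff_of_prod [Fintype F] (h2 : (2 : F) ≠ 0)
    (hQ : (QuadraticMap.polarBilin Q).Nondegenerate) (vs : List (ι → F)) (hvs : ∀ v ∈ vs, Q v ≠ 0)
    (D : Matrix ι ι F) (hD : (vs.map (fun v => Cfsg.reflectionMatrix (⇑Q) v)).prod = D) :
    (∃ g : ↥(Cfsg.isometryGroup F ⇑Q), g ∈ Cfsg.Omega F ⇑Q ∧ mat Q g = D) ↔
      Even vs.length ∧ IsSquare (vs.map (fun v => Q v)).prod := by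
  constructor
  · rintro ⟨g, hg, hgD⟩
    exact (mem_omega_iff h2 hQ ⟨hvs, hgD.trans hD.symm⟩).1 hg
  · intro h
    obtain ⟨g, hg⟩ := exists_isometry_of_prod (Q := Q) vs hvs
    exact ⟨g, (mem_omega_iff h2 hQ hg).2 h, hg.2.trans hD⟩

/-- A family of mutually orthogonal hyperbolic pairs. -/
structure IsPairFamily {κ : Type*} [DecidableEq κ] (Q : QuadraticForm F (ι → F))
    (e f : κ → ι → F) : Prop where
  qe : ∀ a, Q (e a) = 0
  qf : ∀ a, Q (f a) = 0
  ef : ∀ a b, QuadraticMap.polar (⇑Q) (e a) (f b) = if a = b then 1 else 0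
  ee : ∀ a b, QuadraticMap.polar (⇑Q) (e a) (e b) = 0
  ff : ∀ a b, QuadraticMap.polar (⇑Q) (f a) (f b) = 0

variable {κ : Type*} [DecidableEq κ] {e f : κ → ι → F}

lemma IsPairFamily.quad_add (h : IsPairFamily Q e f) (a : κ) : Q (e a + f a) = 1 := by
  rw [QuadraticMap.map_add (⇑Q), h.qe, h.qf, h.ef]; simp

lemma IsPairFamily.quad_sub (h : IsPairFamily Q e f) (a : κ) : Q (e a - f a) = -1 := by
  rw [sub_eq_add_neg, QuadraticMap.map_add (⇑Q), QuadraticMap.map_neg,
    QuadraticMap.polar_neg_right, h.qe, h.qf, h.ef]; simp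

/-- The correction term of the involution negating the pairs in `l`. -/
noncomputable def pairsTerm (Q : QuadraticForm F (ι → F)) (e f : κ → ι → F) (l : List κ)
    (x : ι → F) : ι → F :=
  (l.map fun a => QuadraticMap.polar (⇑Q) (f a) x • e a +
    QuadraticMap.polar (⇑Q) (e a) x • f a).sum

lemma IsPairFamily.polar_pairsTerm (h : IsPairFamily Q e f) (a : κ) (l : List κ) (ha : a ∉ l)
    (x : ι → F) : QuadraticMap.polar (⇑Q) (e a) (pairsTerm Q e f l x) = 0 ∧
      QuadraticMap.polar (⇑Q) (f a) (pairsTerm Q e f l x) = 0 := by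
  induction l with
  | nil => simp [pairsTerm, QuadraticMap.polar_zero_right]
  | cons b l ih =>
    have hab : a ≠ b := fun e' => ha (e' ▸ List.mem_cons_self)
    obtain ⟨i1, i2⟩ := ih fun h' => ha (List.mem_cons_of_mem _ h')
    simp only [pairsTerm, List.map_cons, List.sum_cons] at i1 i2 ⊢
    constructor
    · rw [QuadraticMap.polar_add_right, i1]
      simp [QuadraticMap.polar_add_right, QuadraticMap.polar_smul_right, h.ee, h.ef, hab]
    · rw [QuadraticMap.polar_add_right, i2]
      simp [QuadraticMap.polar_add_right, QuadraticMap.polar_smul_right, h.ff,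
        QuadraticMap.polar_comm (⇑Q) (f a) (e b), h.ef, hab.symm]

/-- The vectors whose reflections negate the pairs in `l`. -/
def pairsList (e f : κ → ι → F) (l : List κ) : List (ι → F) :=
  l.flatMap fun a => [e a + f a, e a - f a]

lemma IsPairFamily.prod_quad (h : IsPairFamily Q e f) (l : List κ) :
    ((pairsList e f l).map (fun v => Q v)).prod = (-1 : F) ^ l.length ∧
      (pairsList e f l).length = 2 * l.length ∧ ∀ v ∈ pairsList e f l, Q v ≠ 0 := by
  induction l with
  | nil => simp [pairsList]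
  | cons a l ih =>
    simp only [pairsList, List.flatMap_cons, List.map_append, List.prod_append,
      List.length_append] at ih ⊢
    refine ⟨?_, ?_, ?_⟩
    · simp [ih.1, h.quad_add, h.quad_sub, pow_succ]
    · simp [ih.2.1]; ring
    · intro v hv
      rcases List.mem_append.1 hv with hv | hv
      · rcases List.mem_cons.1 hv with rfl | hv
        · simp [h.quad_add]
        · rw [List.mem_singleton.1 hv]; simp [h.quad_sub]
      · exact ih.2.2 v hv

lemma IsPairFamily.prod_mulVec (h : IsPairFamily Q e f) (l : List κ) (hl : l.Nodup) (x : ι → F) :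
    ((pairsList e f l).map (fun v => Cfsg.reflectionMatrix (⇑Q) v)).prod *ᵥ x =
      x - (2 : F) • pairsTerm Q e f l x := by
  induction l with
  | nil => simp [pairsList, pairsTerm]
  | cons a l ih =>
    obtain ⟨hal, hl⟩ := List.nodup_cons.1 hl
    have hrec := ih hl
    obtain ⟨o1, o2⟩ := h.polar_pairsTerm a l hal x
    simp only [pairsList, List.flatMap_cons, List.map_append, List.prod_append, List.map_cons,
      List.map_nil, List.prod_cons, List.prod_nil, mul_one] at hrec ⊢
    rw [← mulVec_mulVec, hrec, ← mulVec_mulVec, reflectionMatrix_mulVec, reflectionMatrix_mulVec]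
    set y := x - (2 : F) • pairsTerm Q e f l x with hy
    have pe : QuadraticMap.polar (⇑Q) (e a) y = QuadraticMap.polar (⇑Q) (e a) x := by
      simp [hy, QuadraticMap.polar_sub_right, QuadraticMap.polar_smul_right, o1]
    have pf : QuadraticMap.polar (⇑Q) (f a) y = QuadraticMap.polar (⇑Q) (f a) x := by
      simp [hy, QuadraticMap.polar_sub_right, QuadraticMap.polar_smul_right, o2]
    rw [refl_apply Q (e a - f a), h.quad_sub, refl_apply, h.quad_add]
    simp only [QuadraticMap.polar_sub_left, QuadraticMap.polar_add_left,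
      QuadraticMap.polar_sub_right, QuadraticMap.polar_smul_right, smul_eq_mul, pe, pf, h.ee, h.ff,
      h.ef, QuadraticMap.polar_comm (⇑Q) (f a) (e a), if_pos]
    rw [hy]
    simp only [pairsTerm, List.map_cons, List.sum_cons, inv_one, inv_neg]
    module

/-- The involution negating a family of hyperbolic pairs lies in `Ω` iff `(-1)^#pairs` is a square. -/
theorem IsPairFamily.exists_mem_omega_iff [Fintype F] [Fintype κ] (h : IsPairFamily Q e f)
    (h2 : (2 : F) ≠ 0) (hQ : (QuadraticMap.polarBilin Q).Nondegenerate) (D : Matrix ι ι F)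
    (hD : ∀ x, D *ᵥ x = x - (2 : F) • ∑ a, (QuadraticMap.polar (⇑Q) (f a) x • e a +
      QuadraticMap.polar (⇑Q) (e a) x • f a)) :
    (∃ g : ↥(Cfsg.isometryGroup F ⇑Q), g ∈ Cfsg.Omega F ⇑Q ∧ mat Q g = D) ↔
      IsSquare ((-1 : F) ^ Fintype.card κ) := by
  obtain ⟨h1, h3, h4⟩ := h.prod_quad (Finset.univ : Finset κ).toList
  rw [exists_mem_omega_iff_of_prod h2 hQ _ h4 D ?_, h1, h3, Finset.length_toList,
    Finset.card_univ]
  · simp
  · refine Matrix.ext_iff_mulVec.2 fun x => ?_
    rw [h.prod_mulVec _ (Finset.nodup_toList _), hD, pairsTerm, Finset.sum_map_toList]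

lemma isSquare_neg_one_pow_iff [Fintype F] (h2 : (2 : F) ≠ 0) {q : ℕ} (hF : Fintype.card F = q)
    (i : ℕ) : IsSquare ((-1 : F) ^ i) ↔ q ^ i % 4 = 1 := by
  have hodd : q % 2 = 1 := hF ▸ FiniteField.odd_card_of_char_ne_two fun h => h2 (by
    haveI := ringChar.eq_iff.1 h
    exact CharTwo.two_eq_zero)
  have hneg : IsSquare (-1 : F) ↔ q % 4 ≠ 3 := by
    rw [← hF]; exact FiniteField.isSquare_neg_one_iff
  rw [Nat.pow_mod]
  rcases (show q % 4 = 1 ∨ q % 4 = 3 by omega) with h | h
  · rw [h]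
    simp [(hneg.2 (by omega)).pow]
  · rw [h]
    rcases Nat.even_or_odd i with ⟨k, rfl⟩ | hi
    · rw [Even.neg_one_pow ⟨k, rfl⟩]
      simp [← two_mul, pow_mul, Nat.pow_mod]
    · rw [hi.neg_one_pow]
      obtain ⟨k, rfl⟩ := hi
      simp [hneg, h, pow_succ, pow_mul, Nat.mul_mod, Nat.pow_mod]

end CfsgLib.Spinor
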