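import Cfsg.Agent.Spinor.Reflection

/-!
# Odd characteristic: reflections generate `O(Q)`, and `Ω(Q)` is the spinor kernel
-/

namespace CfsgLib.Spinor

open Matrix

variable {F : Type*} [Field F] {ι : Type} [Fintype ι] [DecidableEq ι] {Q : QuadraticForm F (ι → F)}

lemma polar_nondeg_vec (hQ : (QuadraticMap.polarBilin Q).Nondegenerate) {x : ι → F}
    (h : ∀ y, QuadraticMap.polar (⇑Q) x y = 0) : x = 0 :=
  hQ.1 x fun y => h y

lemma exists_orthogonal_anisotropic_basis (h2 : (2 : F) ≠ 0)
    (hQ : (QuadraticMap.polarBilin Q).Nondegenerate) :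
    ∃ b : Module.Basis (Fin (Module.finrank F (ι → F))) F (ι → F),
      (∀ i j, i ≠ j → QuadraticMap.polar (⇑Q) (b i) (b j) = 0) ∧ ∀ i, Q (b i) ≠ 0 := by
  letI : Invertible (2 : F) := invertibleOfNonzero h2
  obtain ⟨b, hb⟩ := LinearMap.BilinForm.exists_orthogonal_basis
    (B := QuadraticMap.polarBilin Q) (LinearMap.isSymm_def.2 fun x y => QuadraticMap.polar_comm _ x y)
  refine ⟨b, fun i j hij => hb hij, fun i h0 => b.ne_zero i (polar_nondeg_vec hQ ?_)⟩
  intro y
  have : QuadraticMap.polarBilin Q (b i) = 0 := by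
    refine b.ext fun j => ?_
    rcases eq_or_ne i j with rfl | hij
    · simp [QuadraticMap.polar_self, h0]
    · exact hb hij
  exact LinearMap.congr_fun this y

/-- A product of at most two reflections carrying `w` to `u` when `Q w = Q u ≠ 0`, fixing everything
orthogonal to both. -/
lemma exists_move (h2 : (2 : F) ≠ 0) {u w : ι → F} (hu : Q u ≠ 0) (hwu : Q w = Q u) :
    ∃ h : ↥(Cfsg.isometryGroup F ⇑Q), (∃ vs, IsReflProd Q h vs) ∧ mat Q h *ᵥ w = u ∧
      ∀ x, QuadraticMap.polar (⇑Q) w x = 0 → QuadraticMap.polar (⇑Q) u x = 0 →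
        mat Q h *ᵥ x = x := by
  have hp : QuadraticMap.polar (⇑Q) u w = QuadraticMap.polar (⇑Q) w u :=
    QuadraticMap.polar_comm _ u w
  have hplus : Q (w + u) = 2 * Q u + QuadraticMap.polar (⇑Q) w u := by
    rw [QuadraticMap.map_add (⇑Q), hwu]; ring
  have hminus : Q (w - u) = 2 * Q u - QuadraticMap.polar (⇑Q) w u := by
    rw [sub_eq_add_neg, QuadraticMap.map_add (⇑Q), QuadraticMap.map_neg,
      QuadraticMap.polar_neg_right, hwu]; ring
  by_cases hm : Q (w - u) = 0
  · have hp' : Q (w + u) ≠ 0 := by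
      intro h0
      apply hu
      have h4 : 2 * (2 * Q u) = 0 := by linear_combination h0 + hm - hplus - hminus
      exact (mul_eq_zero.1 ((mul_eq_zero.1 h4).resolve_left h2)).resolve_left h2
    refine ⟨reflIso Q u hu * reflIso Q (w + u) hp',
      ⟨_, (IsReflProd.reflIso u hu).mul (IsReflProd.reflIso (w + u) hp')⟩, ?_, fun x hx hy => ?_⟩
    · rw [mat_mul, ← mulVec_mulVec, mat_reflIso, mat_reflIso, reflectionMatrix_mulVec,
        reflectionMatrix_mulVec, refl_apply Q (w + u), QuadraticMap.polar_add_left, hp,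
        polar_self', hwu, ← hplus, inv_mul_cancel₀ hp', one_smul, refl_apply,
        show w - (w + u) = -u by abel, QuadraticMap.polar_neg_right, polar_self',
        show (Q u)⁻¹ * -(2 * Q u) = -2 by field_simp]
      module
    · rw [mat_mul, ← mulVec_mulVec, mat_reflIso, mat_reflIso, reflectionMatrix_mulVec,
        reflectionMatrix_mulVec, refl_apply Q (w + u), QuadraticMap.polar_add_left, hx, hy,
        add_zero, mul_zero, zero_smul, sub_zero, refl_apply, hy, mul_zero, zero_smul, sub_zero]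
  · refine ⟨reflIso Q (w - u) hm, ⟨_, IsReflProd.reflIso (w - u) hm⟩, ?_, fun x hx hy => ?_⟩
    · rw [mat_reflIso, reflectionMatrix_mulVec, refl_apply, QuadraticMap.polar_sub_left, hp,
        polar_self', hwu, ← hminus, inv_mul_cancel₀ hm, one_smul, sub_sub_cancel]
    · rw [mat_reflIso, reflectionMatrix_mulVec, refl_apply, QuadraticMap.polar_sub_left, hx, hy,
        sub_zero, mul_zero, zero_smul, sub_zero]

/-- **Cartan–Dieudonné** (generation form). -/
theorem exists_isReflProd (h2 : (2 : F) ≠ 0) (hQ : (QuadraticMap.polarBilin Q).Nondegenerate)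
    (g : ↥(Cfsg.isometryGroup F ⇑Q)) : ∃ vs, IsReflProd Q g vs := by
  obtain ⟨b, hb, hb0⟩ := exists_orthogonal_anisotropic_basis h2 hQ
  suffices h : ∀ l : List (Fin (Module.finrank F (ι → F))), l.Nodup →
      ∃ h : ↥(Cfsg.isometryGroup F ⇑Q), (∃ vs, IsReflProd Q h vs) ∧
        ∀ i ∈ l, mat Q (h * g) *ᵥ b i = b i by
    obtain ⟨h, ⟨vs, hvs⟩, hfix⟩ := h _ (Finset.nodup_toList Finset.univ)
    have h1 : h * g = 1 := by
      refine mat_ext Q (Matrix.toLin'.injective (b.ext fun i => ?_))
      rw [toLin'_apply, hfix i (by simp), mat_one, toLin'_one, LinearMap.id_apply]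
    exact ⟨_, (eq_inv_of_mul_eq_one_right h1) ▸ hvs.inv⟩
  intro l
  induction l with
  | nil => exact fun _ => ⟨1, ⟨[], IsReflProd.one⟩, by simp⟩
  | cons i l ih =>
    intro hnd
    obtain ⟨hil, hnd⟩ := List.nodup_cons.1 hnd
    obtain ⟨h, ⟨vs, hvs⟩, hfix⟩ := ih hnd
    obtain ⟨k, ⟨ws, hws⟩, hk1, hk2⟩ := exists_move (Q := Q) h2 (hb0 i) (quad_mulVec Q (h * g) (b i))
    refine ⟨k * h, ⟨_, hws.mul hvs⟩, fun j hj => ?_⟩
    rw [mul_assoc, mat_mul, ← mulVec_mulVec]
    rcases List.mem_cons.1 hj with rfl | hjl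
    · exact hk1
    · rw [hfix j hjl]
      have hij : i ≠ j := fun e => hil (e ▸ hjl)
      refine hk2 _ ?_ (hb i j hij)
      conv_lhs => rw [← hfix j hjl]
      rw [polar_mulVec]
      exact hb i j hij

lemma exists_conj_reflIso (h2 : (2 : F) ≠ 0) {v w : ι → F} (hv : Q v ≠ 0) (hw : Q w ≠ 0) {c : F}
    (hc : c ≠ 0) (hcv : Q v = c ^ 2 * Q w) :
    ∃ h : ↥(Cfsg.isometryGroup F ⇑Q), h * reflIso Q v hv * h⁻¹ = reflIso Q w hw := by
  have hcw : Q v = Q (c • w) := by rw [QuadraticMap.map_smul, hcv, smul_eq_mul]; ring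
  obtain ⟨h, -, hh, -⟩ := exists_move (Q := Q) h2 (u := c • w) (w := v) (by rwa [← hcw]) hcw
  refine ⟨h, ?_⟩
  rw [conj_reflIso]
  refine mat_ext Q (Matrix.toLin'.injective ?_)
  simp only [reflIso_coe, toLin'_reflectionMatrix, mat] at hh ⊢
  rw [hh, refl_smul Q hc]

variable [Fintype F]

/-- Products of reflections with even length and square spinor norm lie in `Ω`. -/
theorem mem_omega_of_isReflProd (h2 : (2 : F) ≠ 0)
    {g : ↥(Cfsg.isometryGroup F ⇑Q)} {vs : List (ι → F)} (hvs : IsReflProd Q g vs)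
    (he : Even vs.length) (hsq : IsSquare (vs.map (fun v => Q v)).prod) :
    g ∈ Cfsg.Omega F ⇑Q := by
  classical
  set A := Abelianization ↥(Cfsg.isometryGroup F ⇑Q)
  have hchar : ringChar F ≠ 2 := fun h => h2 (by
    haveI := ringChar.charP F
    exact_mod_cast (CharP.cast_eq_zero_iff F (ringChar F) 2).2 (by rw [h]))
  -- one image for each square class
  let fS : Bool → A := fun s =>
    if h : ∃ v : ι → F, Q v ≠ 0 ∧ decide (IsSquare (Q v)) = s then
      Abelianization.of (reflIso Q h.choose h.choose_spec.1) else 1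
  have hclass : ∀ v (hv : Q v ≠ 0),
      Abelianization.of (reflIso Q v hv) = fS (decide (IsSquare (Q v))) := by
    intro v hv
    have hex : ∃ w : ι → F, Q w ≠ 0 ∧ decide (IsSquare (Q w)) = decide (IsSquare (Q v)) :=
      ⟨v, hv, rfl⟩
    simp only [fS, dif_pos hex]
    obtain ⟨hw, hs⟩ := hex.choose_spec
    set w := hex.choose
    obtain ⟨r, hr⟩ : IsSquare (Q v * Q w) := by
      rw [← quadraticChar_one_iff_isSquare (mul_ne_zero hv hw), map_mul]
      rw [decide_eq_decide] at hs
      by_cases h : IsSquare (Q v)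
      · rw [(quadraticChar_one_iff_isSquare hv).2 h,
          (quadraticChar_one_iff_isSquare hw).2 (hs.2 h), mul_one]
      · rw [quadraticChar_neg_one_iff_not_isSquare.2 h,
          quadraticChar_neg_one_iff_not_isSquare.2 (fun h' => h (hs.1 h'))]
        norm_num
    have hr0 : r ≠ 0 := by rintro rfl; exact mul_ne_zero hv hw (by simpa using hr)
    obtain ⟨h, hh⟩ := exists_conj_reflIso (Q := Q) h2 hv hw (c := r / Q w) (div_ne_zero hr0 hw)
      (by field_simp; linear_combination hr)
    rw [← hh, map_mul, map_mul, map_inv, mul_comm (Abelianization.of h), mul_inv_cancel_right]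
  have hsq1 : ∀ v (hv : Q v ≠ 0),
      fS (decide (IsSquare (Q v))) * fS (decide (IsSquare (Q v))) = 1 := by
    intro v hv
    rw [← hclass v hv, ← map_mul, show reflIso Q v hv * reflIso Q v hv = 1 from
      mat_ext Q (reflectionMatrix_mul_self Q hv), map_one]
  have hpow : ∀ s n, Even n → fS s ^ n = 1 := by
    intro s n hn
    obtain ⟨k, rfl⟩ := hn
    rw [← two_mul, pow_mul]
    suffices fS s ^ 2 = 1 by rw [this, one_pow]
    rw [sq]
    by_cases h : ∃ v : ι → F, Q v ≠ 0 ∧ decide (IsSquare (Q v)) = s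
    · obtain ⟨v, hv, rfl⟩ := h
      exact hsq1 v hv
    · simp [fS, h]
  have key : ∀ (ws : List (ι → F)) (k : ↥(Cfsg.isometryGroup F ⇑Q)), IsReflProd Q k ws →
      ∃ a b : ℕ, ws.length = a + b ∧
        quadraticChar F (ws.map (fun v => Q v)).prod = (-1) ^ b ∧
        Abelianization.of k = fS true ^ a * fS false ^ b := by
    intro ws
    induction ws with
    | nil =>
      intro k hk
      have : k = 1 := mat_ext Q hk.2
      exact ⟨0, 0, rfl, by simp, by simp [this]⟩
    | cons v ws ih =>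
      intro k hk
      have hv := hk.1 v List.mem_cons_self
      have hk' : IsReflProd Q (reflIso Q v hv * k) ws := by
        refine ⟨fun u hu => hk.1 u (List.mem_cons_of_mem _ hu), ?_⟩
        rw [mat_mul, hk.2, List.map_cons, List.prod_cons, ← mul_assoc, mat, reflIso_coe,
          reflectionMatrix_mul_self Q hv, one_mul]
      obtain ⟨a, b, hl, hq, hA⟩ := ih _ hk'
      have hA' : Abelianization.of k = fS (decide (IsSquare (Q v))) * (fS true ^ a * fS false ^ b) := by
        rw [← hA, map_mul, hclass, ← mul_assoc, hsq1 v hv, one_mul]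
      rw [List.length_cons, List.map_cons, List.prod_cons, map_mul, hq]
      by_cases h : IsSquare (Q v)
      · refine ⟨a + 1, b, by omega, ?_, ?_⟩
        · rw [(quadraticChar_one_iff_isSquare hv).2 h, one_mul]
        · rw [hA', show decide (IsSquare (Q v)) = true by simpa using h, pow_succ']
          rw [mul_assoc]
      · refine ⟨a, b + 1, by omega, ?_, ?_⟩
        · rw [quadraticChar_neg_one_iff_not_isSquare.2 h, pow_succ']
        · rw [hA', show decide (IsSquare (Q v)) = false by simpa using h, pow_succ', mul_left_comm]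
  obtain ⟨a, b, hl, hq, hA⟩ := key vs g hvs
  rw [(quadraticChar_one_iff_isSquare (prod_quad_ne_zero hvs.1)).2 hsq] at hq
  have hb : Even b := by
    by_contra hb
    rw [(Nat.not_even_iff_odd.1 hb).neg_one_pow] at hq
    exact absurd hq (by norm_num)
  have ha : Even a := by
    rw [hl, Nat.even_add] at he
    exact he.2 hb
  rw [hpow _ _ ha, hpow _ _ hb, one_mul] at hA
  rw [Cfsg.Omega, ← Abelianization.ker_of]
  exact hA

/-- **Spinor norm criterion.** -/
theorem mem_omega_iff (h2 : (2 : F) ≠ 0) (hQ : (QuadraticMap.polarBilin Q).Nondegenerate)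
    {g : ↥(Cfsg.isometryGroup F ⇑Q)} {vs : List (ι → F)} (hvs : IsReflProd Q g vs) :
    g ∈ Cfsg.Omega F ⇑Q ↔ Even vs.length ∧ IsSquare (vs.map (fun v => Q v)).prod :=
  ⟨fun h => even_and_isSquare_of_mem_omega hQ (exists_isReflProd h2 hQ) h hvs,
    fun h => mem_omega_of_isReflProd h2 hvs h.1 h.2⟩

end CfsgLib.Spinor
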