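import Mathlib

/-!
# The spinor norm kernel lemma, in every characteristic

If a product of reflections in anisotropic vectors of a quadratic space with nondegenerate polar
form is the identity, then the number of factors is even and the product of the norms is a square.
-/

namespace CfsgLib.Spinor

open CliffordAlgebra

variable {F V : Type*} [Field F] [AddCommGroup V] [Module F V] (Q : QuadraticForm F V)

/-- The reflection `x ↦ x - Q(v)⁻¹ f(v, x) v`. -/
noncomputable def refl (v : V) : V →ₗ[F] V :=
  LinearMap.id - (Q v)⁻¹ • (QuadraticMap.polarBilin Q v).smulRight v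

lemma refl_apply (v x : V) :
    refl Q v x = x - ((Q v)⁻¹ * QuadraticMap.polar (⇑Q) v x) • v := by
  simp [refl, smul_smul]

/-- The product `ι v₁ ⋯ ι v_k` in the Clifford algebra. -/
noncomputable def cliff (vs : List V) : CliffordAlgebra Q := (vs.map (ι Q)).prod

lemma ι_mul_ι_refl {v : V} (hv : Q v ≠ 0) (w : V) :
    ι Q v * ι Q w = -(ι Q (refl Q v w) * ι Q v) := by
  rw [refl_apply, map_sub, map_smul, sub_mul, smul_mul_assoc, ι_sq_scalar,
    Algebra.smul_def, ← map_mul (algebraMap F (CliffordAlgebra Q)), show (Q v)⁻¹ * QuadraticMap.polar (⇑Q) v w * Q v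
      = QuadraticMap.polar (⇑Q) v w by field_simp, ι_mul_ι_comm v w]
  abel

lemma cliff_mul_ι (vs : List V) (hvs : ∀ v ∈ vs, Q v ≠ 0) (w : V) :
    cliff Q vs * ι Q w = (-1 : F) ^ vs.length •
      (ι Q (((vs.map (refl Q)).prod : Module.End F V) w) * cliff Q vs) := by
  induction vs generalizing w with
  | nil => simp [cliff]
  | cons v vs ih =>
    have hv := hvs v List.mem_cons_self
    simp only [cliff, List.map_cons, List.prod_cons, List.length_cons, Module.End.mul_apply]
    simp only [cliff] at ih
    rw [mul_assoc, ih (fun u hu => hvs u (List.mem_cons_of_mem _ hu)) w, mul_smul_comm,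
      ← mul_assoc, ι_mul_ι_refl Q hv, pow_succ, mul_smul, neg_one_smul]
    simp [mul_assoc]

lemma involute_cliff (vs : List V) :
    involute (cliff Q vs) = (-1 : F) ^ vs.length • cliff Q vs := by
  induction vs with
  | nil => simp [cliff]
  | cons v vs ih =>
    simp only [cliff, List.map_cons, List.prod_cons, List.length_cons] at ih ⊢
    rw [map_mul, involute_ι, ih, pow_succ, mul_smul, neg_one_smul]
    simp [smul_neg]

lemma cliff_mem_evenOdd (vs : List V) : cliff Q vs ∈ evenOdd Q (vs.length : ZMod 2) := by
  induction vs with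
  | nil => simpa [cliff] using SetLike.one_mem_graded (evenOdd Q)
  | cons v vs ih =>
    simp only [cliff, List.map_cons, List.prod_cons, List.length_cons] at ih ⊢
    rw [Nat.cast_succ, add_comm]
    exact SetLike.mul_mem_graded (ι_mem_evenOdd_one Q v) ih

lemma reverse_cliff_mul (vs : List V) :
    reverse (cliff Q vs) * cliff Q vs = algebraMap F _ (vs.map Q).prod := by
  induction vs with
  | nil => simp [cliff]
  | cons v vs ih =>
    simp only [cliff, List.map_cons, List.prod_cons] at ih ⊢
    rw [reverse.map_mul, reverse_ι, mul_assoc, ← mul_assoc (ι Q v), ι_sq_scalar,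
      Algebra.commutes, ← mul_assoc, ih, ← map_mul, mul_comm (Q v)]

lemma contractLeft_polar (w : V) (x : CliffordAlgebra Q) :
    contractLeft (QuadraticMap.polarBilin Q w) x = ι Q w * x - involute x * ι Q w := by
  induction x using CliffordAlgebra.left_induction with
  | algebraMap r =>
    rw [contractLeft_algebraMap, AlgHom.commutes, Algebra.commutes, sub_self]
  | add a b ha hb => rw [map_add, map_add, ha, hb, mul_add, add_mul]; abel
  | ι_mul x m hx =>
    rw [contractLeft_ι_mul, hx, map_mul, involute_ι, QuadraticMap.polarBilin_apply_apply,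
      ← mul_assoc (ι Q w), ι_mul_ι_comm w m, sub_mul, ← Algebra.smul_def, mul_sub,
      ← mul_assoc (ι Q m), neg_mul, neg_mul, sub_neg_eq_add, mul_assoc (ι Q m) (involute x)]
    abel

section Basis

variable {Q} {ι₀ : Type*} (b : Module.Basis ι₀ F V)

/-- The span of the ordered monomials in the basis vectors indexed by a list. -/
noncomputable def monSpan : List ι₀ → Submodule F (CliffordAlgebra Q)
  | [] => LinearMap.range (Algebra.linearMap F _)
  | j :: l => monSpan l ⊔ (monSpan l).map (LinearMap.mulLeft F (ι Q (b j)))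

lemma contractLeft_monSpan [DecidableEq ι₀] (j : ι₀) :
    ∀ l : List ι₀, j ∉ l → ∀ x ∈ monSpan (Q := Q) b l, contractLeft (b.coord j) x = 0 := by
  intro l
  induction l with
  | nil =>
    rintro - x ⟨r, rfl⟩
    exact contractLeft_algebraMap (Q := Q) (b.coord j) r
  | cons i l ih =>
    intro hj x hx
    obtain ⟨a, ha, c, ⟨d, hd, rfl⟩, rfl⟩ := Submodule.mem_sup.1 hx
    have hji : j ≠ i := fun h => hj (h ▸ List.mem_cons_self)
    have hjl : j ∉ l := fun h => hj (List.mem_cons_of_mem _ h)
    rw [map_add, LinearMap.mulLeft_apply, contractLeft_ι_mul, ih hjl a ha, ih hjl d hd]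
    simp [hji.symm]

lemma ι_mul_monSpan :
    ∀ l : List ι₀, ∀ i ∈ l, ∀ x ∈ monSpan (Q := Q) b l, ι Q (b i) * x ∈ monSpan (Q := Q) b l := by
  intro l
  induction l with
  | nil => intro i hi; exact absurd hi List.not_mem_nil
  | cons j l ih =>
    intro i hi x hx
    obtain ⟨a, ha, c, ⟨d, hd, rfl⟩, rfl⟩ := Submodule.mem_sup.1 hx
    rw [LinearMap.mulLeft_apply, mul_add]
    by_cases hij : i = j
    · subst hij
      refine Submodule.add_mem _ (Submodule.mem_sup_right ⟨a, ha, rfl⟩) ?_
      rw [← mul_assoc, ι_sq_scalar, ← Algebra.smul_def]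
      exact Submodule.mem_sup_left (Submodule.smul_mem _ _ hd)
    · have hil : i ∈ l := (List.mem_cons.1 hi).resolve_left hij
      refine Submodule.add_mem _ (Submodule.mem_sup_left (ih i hil a ha)) ?_
      rw [← mul_assoc, ι_mul_ι_comm, sub_mul, ← Algebra.smul_def, mul_assoc]
      exact Submodule.sub_mem _ (Submodule.mem_sup_left (Submodule.smul_mem _ _ hd))
        (Submodule.mem_sup_right ⟨_, ih i hil d hd, rfl⟩)

lemma mem_monSpan [Fintype ι₀] (x : CliffordAlgebra Q) :
    x ∈ monSpan (Q := Q) b (Finset.univ : Finset ι₀).toList := by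
  have hscal : ∀ l : List ι₀, ∀ r : F, algebraMap F _ r ∈ monSpan (Q := Q) b l := by
    intro l r
    induction l with
    | nil => exact ⟨r, rfl⟩
    | cons j l ih => exact Submodule.mem_sup_left ih
  induction x using CliffordAlgebra.left_induction with
  | algebraMap r => exact hscal _ r
  | add a c ha hc => exact Submodule.add_mem _ ha hc
  | ι_mul x m hx =>
    rw [← b.sum_repr m, map_sum, Finset.sum_mul]
    refine Submodule.sum_mem _ fun i _ => ?_
    rw [map_smul, smul_mul_assoc]
    exact Submodule.smul_mem _ _ (ι_mul_monSpan b _ i (by simp) x hx)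

lemma scalar_of_contract [DecidableEq ι₀] : ∀ l : List ι₀, l.Nodup → ∀ x ∈ monSpan (Q := Q) b l,
    (∀ j ∈ l, contractLeft (b.coord j) x = 0) → ∃ r : F, x = algebraMap F _ r := by
  intro l
  induction l with
  | nil => rintro - x ⟨r, rfl⟩ -; exact ⟨r, rfl⟩
  | cons j l ih =>
    intro hnd x hx hc
    obtain ⟨a, ha, c, ⟨d, hd, rfl⟩, rfl⟩ := Submodule.mem_sup.1 hx
    obtain ⟨hjl, hnd⟩ := List.nodup_cons.1 hnd
    have h := hc j List.mem_cons_self
    rw [map_add, LinearMap.mulLeft_apply, contractLeft_ι_mul, contractLeft_monSpan b j l hjl a ha,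
      contractLeft_monSpan b j l hjl d hd] at h
    simp at h
    subst h
    rw [map_zero, add_zero] at hc ⊢
    exact ih hnd a ha fun i hi => hc i (List.mem_cons_of_mem _ hi)

lemma algebraMap_injective [Finite ι₀] [LinearOrder ι₀] (b : Module.Basis ι₀ F V) :
    Function.Injective (algebraMap F (CliffordAlgebra Q)) := by
  intro r s h
  have h0 : (-(Q.toBilin b)).toQuadraticMap = (0 : QuadraticForm F V) - Q := by
    rw [LinearMap.BilinMap.toQuadraticMap_neg, QuadraticMap.toQuadraticMap_toBilin, zero_sub]
  have h' := congrArg (changeForm h0) h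
  rw [changeForm_algebraMap, changeForm_algebraMap] at h'
  exact (ExteriorAlgebra.algebraMap_inj V r s).1 h'

end Basis

variable [FiniteDimensional F V]

/-- **Kernel lemma**: a product of reflections equal to the identity has an even number of factors
and a square product of norms. -/
theorem even_and_isSquare_of_prod_refl_eq_one (hQ : (QuadraticMap.polarBilin Q).Nondegenerate)
    (vs : List V) (hvs : ∀ v ∈ vs, Q v ≠ 0)
    (h1 : (vs.map (refl Q)).prod = (1 : Module.End F V)) :
    Even vs.length ∧ IsSquare (vs.map Q).prod := by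
  classical
  let b := Module.finBasis F V
  set X := cliff Q vs with hX
  have hc : ∀ w, contractLeft (QuadraticMap.polarBilin Q w) X = 0 := by
    intro w
    rw [contractLeft_polar, hX, involute_cliff, smul_mul_assoc, cliff_mul_ι Q vs hvs, h1,
      Module.End.one_apply, smul_smul, ← mul_pow, neg_one_mul, neg_neg, one_pow, one_smul,
      sub_self]
  have hall : ∀ d : Module.Dual F V, contractLeft d X = 0 := by
    intro d
    obtain ⟨w, rfl⟩ : ∃ w, QuadraticMap.polarBilin Q w = d := by
      have hinj : Function.Injective (QuadraticMap.polarBilin Q) :=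
        (injective_iff_map_eq_zero _).2 fun u hu => hQ.1 u fun v => by rw [hu]; rfl
      exact ((LinearMap.injective_iff_surjective_of_finrank_eq_finrank
        Subspace.dual_finrank_eq.symm).1 hinj) d
    exact hc w
  obtain ⟨r, hr⟩ := scalar_of_contract b _ (Finset.nodup_toList _) X (mem_monSpan b X)
    (fun j _ => hall _)
  have hinj := algebraMap_injective (Q := Q) b
  have hr2 : r * r = (vs.map Q).prod := by
    apply hinj
    rw [map_mul, ← reverse_cliff_mul, ← hX, hr, reverse.commutes]
  have hne : (vs.map Q).prod ≠ 0 := by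
    refine List.prod_ne_zero ?_
    intro h
    obtain ⟨v, hv, hv0⟩ := List.mem_map.1 h
    exact hvs v hv hv0
  refine ⟨?_, r, hr2.symm⟩
  by_contra hodd
  have h0 : X ∈ evenOdd Q 0 := by
    rw [hr]
    exact SetLike.algebraMap_mem_graded _ r
  have h1' : X ∈ evenOdd Q 1 := by
    have := cliff_mem_evenOdd Q vs
    rwa [show ((vs.length : ℕ) : ZMod 2) = 1 from ?_] at this
    exact (ZMod.natCast_eq_one_iff_odd).2 (Nat.not_even_iff_odd.1 hodd)
  have : X = 0 := (Submodule.mem_bot F).1
    ((evenOdd_isCompl Q).disjoint.eq_bot ▸ Submodule.mem_inf.2 ⟨h0, h1'⟩)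
  rw [hr, map_eq_zero_iff _ hinj] at this
  rw [this, zero_mul] at hr2
  exact hne hr2.symm

end CfsgLib.Spinor
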