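import Cfsg.Prelude.Def_Classical
import Cfsg.Prelude.Def_ClassicalGeometry
import Cfsg.Agent.Spinor.Clifford

/-!
# Reflections in `Cfsg.isometryGroup F ⇑Q` and their spinor invariants
-/

namespace CfsgLib.Spinor

open Matrix

variable {F : Type*} [Field F] {ι : Type} [Fintype ι] [DecidableEq ι] (Q : QuadraticForm F (ι → F))

lemma polarVec_dot (v x : ι → F) : Cfsg.polarVec (⇑Q) v ⬝ᵥ x = QuadraticMap.polar (⇑Q) v x := by
  conv_rhs => rw [pi_eq_sum_univ' x, ← QuadraticMap.polarBilin_apply_apply, map_sum]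
  simp only [map_smul, QuadraticMap.polarBilin_apply_apply, smul_eq_mul, dotProduct, Cfsg.polarVec]
  exact Finset.sum_congr rfl fun i _ => mul_comm _ _

lemma reflectionMatrix_mulVec (v x : ι → F) :
    Cfsg.reflectionMatrix (⇑Q) v *ᵥ x = refl Q v x := by
  rw [Cfsg.reflectionMatrix, sub_mulVec, one_mulVec, smul_mulVec, vecMulVec_mulVec,
    polarVec_dot, op_smul_eq_smul, smul_smul, refl_apply]

lemma toLin'_reflectionMatrix (v : ι → F) :
    Matrix.toLin' (Cfsg.reflectionMatrix (⇑Q) v) = refl Q v :=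
  LinearMap.ext fun x => by rw [toLin'_apply, reflectionMatrix_mulVec]

lemma toLin'_prod (vs : List (ι → F)) :
    Matrix.toLin' (vs.map (fun v => Cfsg.reflectionMatrix (⇑Q) v)).prod =
      (vs.map (refl Q)).prod := by
  induction vs with
  | nil => simp [Module.End.one_eq_id]
  | cons v vs ih =>
    rw [List.map_cons, List.prod_cons, List.map_cons, List.prod_cons, toLin'_mul,
      toLin'_reflectionMatrix, ih]
    rfl

/-- **Kernel lemma**, matrix form. -/
theorem even_and_isSquare_of_prod_reflectionMatrix_eq_one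
    (hQ : (QuadraticMap.polarBilin Q).Nondegenerate)
    (vs : List (ι → F)) (hvs : ∀ v ∈ vs, Q v ≠ 0)
    (h1 : (vs.map (fun v => Cfsg.reflectionMatrix (⇑Q) v)).prod = 1) :
    Even vs.length ∧ IsSquare (vs.map (fun v => Q v)).prod := by
  refine even_and_isSquare_of_prod_refl_eq_one Q hQ vs hvs ?_
  rw [← toLin'_prod, h1, toLin'_one, Module.End.one_eq_id]

lemma quad_refl {v : ι → F} (hv : Q v ≠ 0) (x : ι → F) : Q (refl Q v x) = Q x := by
  rw [refl_apply, sub_eq_add_neg, ← neg_smul, QuadraticMap.map_add (⇑Q), QuadraticMap.map_smul,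
    QuadraticMap.polar_smul_right, smul_eq_mul, smul_eq_mul, QuadraticMap.polar_comm (⇑Q) x v]
  field_simp
  ring

lemma polar_self' (v : ι → F) : QuadraticMap.polar (⇑Q) v v = 2 * Q v := by
  rw [QuadraticMap.polar_self, nsmul_eq_mul, Nat.cast_ofNat]

lemma refl_refl {v : ι → F} (hv : Q v ≠ 0) (x : ι → F) : refl Q v (refl Q v x) = x := by
  rw [refl_apply, refl_apply, QuadraticMap.polar_sub_right, QuadraticMap.polar_smul_right,
    polar_self', smul_eq_mul, sub_sub, ← add_smul, sub_eq_self, smul_eq_zero]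
  left
  field_simp
  ring

lemma refl_smul {c : F} (hc : c ≠ 0) (v : ι → F) : refl Q (c • v) = refl Q v := by
  refine LinearMap.ext fun x => ?_
  rw [refl_apply, refl_apply, QuadraticMap.map_smul, QuadraticMap.polar_smul_left, smul_smul,
    smul_eq_mul, smul_eq_mul]
  congr 2
  rcases eq_or_ne (Q v) 0 with h | h
  · simp [h]
  · field_simp

lemma reflectionMatrix_mul_self {v : ι → F} (hv : Q v ≠ 0) :
    Cfsg.reflectionMatrix (⇑Q) v * Cfsg.reflectionMatrix (⇑Q) v = 1 := by
  refine Matrix.toLin'.injective (LinearMap.ext fun x => ?_)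
  rw [toLin'_mul, toLin'_one, LinearMap.comp_apply, toLin'_reflectionMatrix, refl_refl Q hv]
  rfl

/-- The reflection in an anisotropic vector, in the isometry group. -/
def reflIso (v : ι → F) (hv : Q v ≠ 0) : ↥(Cfsg.isometryGroup F ⇑Q) :=
  ⟨⟨Cfsg.reflectionMatrix (⇑Q) v, Cfsg.reflectionMatrix (⇑Q) v,
      reflectionMatrix_mul_self Q hv, reflectionMatrix_mul_self Q hv⟩,
    fun x _ => by
      show Q (Cfsg.reflectionMatrix (⇑Q) v *ᵥ x) = Q x
      rw [reflectionMatrix_mulVec, quad_refl Q hv]⟩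

@[simp] lemma reflIso_coe (v : ι → F) (hv : Q v ≠ 0) :
    (((reflIso Q v hv : Matrix.GeneralLinearGroup ι F)) : Matrix ι ι F)
      = Cfsg.reflectionMatrix (⇑Q) v := rfl

/-- The matrix of an element of the isometry group. -/
abbrev mat (g : ↥(Cfsg.isometryGroup F ⇑Q)) : Matrix ι ι F :=
  ((g : Matrix.GeneralLinearGroup ι F) : Matrix ι ι F)

lemma mat_reflIso (v : ι → F) (hv : Q v ≠ 0) :
    mat Q (reflIso Q v hv) = Cfsg.reflectionMatrix (⇑Q) v := rfl

lemma mat_ext {g h : ↥(Cfsg.isometryGroup F ⇑Q)} (e : mat Q g = mat Q h) : g = h :=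
  Subtype.ext (Units.ext e)

lemma mat_mul (g h : ↥(Cfsg.isometryGroup F ⇑Q)) : mat Q (g * h) = mat Q g * mat Q h := rfl

lemma mat_one : mat Q 1 = 1 := rfl

lemma quad_mulVec (g : ↥(Cfsg.isometryGroup F ⇑Q)) (x : ι → F) : Q (mat Q g *ᵥ x) = Q x :=
  g.2 x x

lemma polar_mulVec (g : ↥(Cfsg.isometryGroup F ⇑Q)) (x y : ι → F) :
    QuadraticMap.polar (⇑Q) (mat Q g *ᵥ x) (mat Q g *ᵥ y) = QuadraticMap.polar (⇑Q) x y := by
  simp only [QuadraticMap.polar, ← mulVec_add, quad_mulVec]

lemma mat_mul_reflectionMatrix (g : ↥(Cfsg.isometryGroup F ⇑Q)) (v : ι → F) :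
    mat Q g * Cfsg.reflectionMatrix (⇑Q) v =
      Cfsg.reflectionMatrix (⇑Q) (mat Q g *ᵥ v) * mat Q g := by
  refine Matrix.toLin'.injective (LinearMap.ext fun x => ?_)
  simp only [toLin'_mul, LinearMap.comp_apply, toLin'_reflectionMatrix, toLin'_apply, refl_apply,
    polar_mulVec, quad_mulVec, mulVec_sub, mulVec_smul]

lemma conj_reflIso (g : ↥(Cfsg.isometryGroup F ⇑Q)) (v : ι → F) (hv : Q v ≠ 0) :
    g * reflIso Q v hv * g⁻¹ =
      reflIso Q (mat Q g *ᵥ v) (by rw [quad_mulVec]; exact hv) := by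
  rw [mul_inv_eq_iff_eq_mul]
  exact mat_ext Q (mat_mul_reflectionMatrix Q g v)

/-- `g` is the product of the reflections in the anisotropic vectors `vs`. -/
def IsReflProd (g : ↥(Cfsg.isometryGroup F ⇑Q)) (vs : List (ι → F)) : Prop :=
  (∀ v ∈ vs, Q v ≠ 0) ∧ mat Q g = (vs.map (fun v => Cfsg.reflectionMatrix (⇑Q) v)).prod

variable {Q}

lemma IsReflProd.one : IsReflProd Q 1 [] := ⟨by simp, rfl⟩

lemma IsReflProd.reflIso (v : ι → F) (hv : Q v ≠ 0) :
    IsReflProd Q (reflIso Q v hv) [v] := ⟨by simpa using hv, by simp [mat]⟩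

lemma IsReflProd.mul {g h : ↥(Cfsg.isometryGroup F ⇑Q)} {vs ws : List (ι → F)}
    (hg : IsReflProd Q g vs) (hh : IsReflProd Q h ws) : IsReflProd Q (g * h) (vs ++ ws) := by
  refine ⟨fun v hv => ?_, ?_⟩
  · rcases List.mem_append.1 hv with h' | h'
    · exact hg.1 v h'
    · exact hh.1 v h'
  · rw [mat_mul, hg.2, hh.2, List.map_append, List.prod_append]

lemma prod_mul_prod_reverse (vs : List (ι → F)) (hvs : ∀ v ∈ vs, Q v ≠ 0) :
    (vs.map (fun v => Cfsg.reflectionMatrix (⇑Q) v)).prod *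
      (vs.reverse.map (fun v => Cfsg.reflectionMatrix (⇑Q) v)).prod = 1 := by
  induction vs with
  | nil => simp
  | cons v vs ih =>
    simp only [List.map_cons, List.prod_cons, List.reverse_cons, List.map_append,
      List.prod_append, List.map_nil, List.prod_nil, mul_one]
    rw [mul_assoc, ← mul_assoc (List.prod _) (List.prod _),
      ih (fun u hu => hvs u (List.mem_cons_of_mem _ hu)), one_mul,
      reflectionMatrix_mul_self Q (hvs v List.mem_cons_self)]

lemma IsReflProd.inv {g : ↥(Cfsg.isometryGroup F ⇑Q)} {vs : List (ι → F)}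
    (hg : IsReflProd Q g vs) : IsReflProd Q g⁻¹ vs.reverse := by
  refine ⟨fun v hv => hg.1 v (List.mem_reverse.1 hv), ?_⟩
  have h := congrArg (mat Q g⁻¹ * ·) (prod_mul_prod_reverse vs hg.1)
  simp only [← hg.2, ← mul_assoc, ← mat_mul, inv_mul_cancel, mat_one, one_mul, mul_one] at h
  exact h.symm

/-- Two factorizations have equal parity and spinor norm. -/
theorem IsReflProd.invariant (hQ : (QuadraticMap.polarBilin Q).Nondegenerate)
    {g : ↥(Cfsg.isometryGroup F ⇑Q)} {vs ws : List (ι → F)}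
    (hv : IsReflProd Q g vs) (hw : IsReflProd Q g ws) :
    (Even vs.length ↔ Even ws.length) ∧
      IsSquare ((vs.map (fun v => Q v)).prod * (ws.map (fun v => Q v)).prod) := by
  have h := hv.mul hw.inv
  rw [mul_inv_cancel] at h
  obtain ⟨h1, h2⟩ := even_and_isSquare_of_prod_reflectionMatrix_eq_one Q hQ _ h.1
    (h.2.symm.trans (mat_one Q))
  rw [List.length_append, List.length_reverse, Nat.even_add] at h1
  rw [List.map_append, List.prod_append, List.map_reverse, List.prod_reverse] at h2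
  exact ⟨h1, h2⟩

lemma prod_quad_ne_zero {vs : List (ι → F)} (hvs : ∀ v ∈ vs, Q v ≠ 0) :
    (vs.map (fun v => Q v)).prod ≠ 0 := by
  refine List.prod_ne_zero ?_
  intro h
  obtain ⟨v, hv, hv0⟩ := List.mem_map.1 h
  exact hvs v hv hv0

theorem IsReflProd.even_square_iff (hQ : (QuadraticMap.polarBilin Q).Nondegenerate)
    {g : ↥(Cfsg.isometryGroup F ⇑Q)} {vs ws : List (ι → F)}
    (hv : IsReflProd Q g vs) (hw : IsReflProd Q g ws) :
    (Even vs.length ∧ IsSquare (vs.map (fun v => Q v)).prod) ↔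
      (Even ws.length ∧ IsSquare (ws.map (fun v => Q v)).prod) := by
  obtain ⟨h1, r, hr⟩ := IsReflProd.invariant hQ hv hw
  have n1 := prod_quad_ne_zero hv.1
  have n2 := prod_quad_ne_zero hw.1
  refine and_congr h1 ⟨?_, ?_⟩
  · rintro ⟨s, hs⟩
    refine ⟨r / s, ?_⟩
    have : s ≠ 0 := by rintro rfl; exact n1 (by simpa using hs)
    field_simp
    linear_combination (ws.map (fun v => Q v)).prod * (-hs) + hr
  · rintro ⟨s, hs⟩
    refine ⟨r / s, ?_⟩
    have : s ≠ 0 := by rintro rfl; exact n2 (by simpa using hs)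
    field_simp
    linear_combination (vs.map (fun v => Q v)).prod * (-hs) + hr

/-- If reflections generate, every element of `Ω` has even parity and square spinor norm
(any characteristic). -/
theorem even_and_isSquare_of_mem_omega (hQ : (QuadraticMap.polarBilin Q).Nondegenerate)
    (hgen : ∀ g : ↥(Cfsg.isometryGroup F ⇑Q), ∃ vs, IsReflProd Q g vs)
    {g : ↥(Cfsg.isometryGroup F ⇑Q)} (hg : g ∈ Cfsg.Omega F ⇑Q)
    {vs : List (ι → F)} (hvs : IsReflProd Q g vs) :
    Even vs.length ∧ IsSquare (vs.map (fun v => Q v)).prod := by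
  suffices h : ∃ ws, IsReflProd Q g ws ∧ Even ws.length ∧ IsSquare (ws.map (fun v => Q v)).prod by
    obtain ⟨ws, hws, hgood⟩ := h
    exact (IsReflProd.even_square_iff hQ hvs hws).2 hgood
  rw [show Cfsg.Omega F ⇑Q = Subgroup.closure (commutatorSet _) from commutator_eq_closure _] at hg
  induction hg using Subgroup.closure_induction generalizing vs with
  | mem x hx =>
    obtain ⟨a, b, rfl⟩ := hx
    obtain ⟨as, ha⟩ := hgen a
    obtain ⟨bs, hb⟩ := hgen b
    refine ⟨_, ((ha.mul hb).mul ha.inv).mul hb.inv, ?_, ?_⟩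
    · simp only [List.length_append, List.length_reverse]
      exact ⟨as.length + bs.length, by ring⟩
    · simp only [List.map_append, List.prod_append, List.map_reverse, List.prod_reverse]
      exact ⟨(as.map (fun v => Q v)).prod * (bs.map (fun v => Q v)).prod, by ring⟩
  | one => exact ⟨[], IsReflProd.one, by simp, by simp⟩
  | mul x y _ _ hx hy =>
    obtain ⟨xs, hxs⟩ := hgen x
    obtain ⟨ys, hys⟩ := hgen y
    obtain ⟨xw, hxw, e1, s1⟩ := hx hxs
    obtain ⟨yw, hyw, e2, s2⟩ := hy hys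
    refine ⟨_, hxw.mul hyw, by rw [List.length_append]; exact e1.add e2, ?_⟩
    rw [List.map_append, List.prod_append]
    exact s1.mul s2
  | inv x _ hx =>
    obtain ⟨xs, hxs⟩ := hgen x
    obtain ⟨xw, hxw, e1, s1⟩ := hx hxs
    exact ⟨_, hxw.inv, by rwa [List.length_reverse],
      by rwa [List.map_reverse, List.prod_reverse]⟩

end CfsgLib.Spinor
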